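import Cfsg.Agent.Helper5.PsuE2.Defs

/-!
# S2089 block I-even-2: the pieces (CLE) and (C1)
-/

set_option autoImplicit false

namespace Cfsg.Agent.Helper5.PsuE2

open Matrix
open scoped commutatorElement
open Cfsg.Agent.Helper43.PsuM.Ev
open Cfsg.Agent.Helper96.StLift

universe u

variable {K : Type u} [Field K] {σ : K →+* K} {m : ℕ} {Γ : Type u} [Group Γ] [Finite Γ]
  (τ : Γ →* SUe m σ) (hτ : Function.Surjective τ)

omit [Finite Γ] in
/-- (CLE) -/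
theorem Cq_le (E : Ext2 τ hτ) (F : F4Facts σ) (R : RootFacts σ m) (hm : 4 ≤ m)
    (L : LiftFacts τ hτ) (zT : Fin m → Γ) (Z : ZFacts τ hτ zT) :
    Cq τ zT ≤ (Qsub m σ).comap τ := by
  unfold Cq
  apply sup_le (csh_le τ R.T_norm)
  rw [Subgroup.closure_le]
  rintro _ ⟨a, rfl⟩
  change τ (zT a) ∈ Qsub m σ
  rw [Z.map_zT]
  exact R.z_mem a

omit [Finite Γ] in
/-- (C1) -/
theorem lc_eq_cT_mul_zt (E : Ext2 τ hτ) (F : F4Facts σ) (R : RootFacts σ m) (hm : 4 ≤ m)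
    (L : LiftFacts τ hτ) (a b : Fin m) (hab : a ≠ b) (t : K) (ht : t ≠ 0) :
    lc hτ (xE σ a b t) (zE σ b 1) = cT τ a b t * zt τ hτ a b := by
  obtain ⟨h, hT, hx, hcc⟩ := R.T_ab a b hab t ht
  obtain ⟨g, rfl⟩ := hτ h
  have h1 : g * zt τ hτ a b * g⁻¹ = zt τ hτ a b := by
    have := L.torus_z g (zt τ hτ a b) a hT (map_zt τ hτ R hab)
    rw [this.eq, mul_inv_cancel_right]
  have h2 : g * lc hτ (xE σ a b 1) (zE σ b 1) * g⁻¹ = lc hτ (xE σ a b t) (zE σ b 1) := by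
    rw [lc_conj hτ E.central, hx]
    have := R.T_z _ hT b
    rw [this.eq, mul_inv_cancel_right]
  have h3 : g * cT τ a b 1 * g⁻¹ = cT τ a b t := by
    apply cT_unique τ hτ R L.csh_inf hab
    · exact csh_conj τ R.T_norm g hT _ (cT_mem τ hτ R hab 1)
    · rw [map_mul, map_mul, map_inv, map_cT τ hτ R hab, hcc]
  have h4 : lc hτ (xE σ a b t) (zE σ b 1) * (cT τ a b t)⁻¹ = zt τ hτ a b := by
    rw [← h2, ← h3]
    conv_rhs => rw [← h1]
    unfold zt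
    group
  have h5 : lc hτ (xE σ a b t) (zE σ b 1) = zt τ hτ a b * cT τ a b t := by
    rw [← h4, inv_mul_cancel_right]
  rw [h5]
  apply (E.comm _ _ ?_ ?_).eq
  · rw [map_zt τ hτ R hab]
    exact R.z_mem a
  · rw [map_cT τ hτ R hab]
    exact R.c_mem a b hab t

end Cfsg.Agent.Helper5.PsuE2
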