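import Cfsg.Agent.Helper5.PsuE2.Defs
import Cfsg.Agent.Helper61.PsuM_AMAT
import Cfsg.Agent.Helper61.PsuM_AQ
import Cfsg.Agent.Helper33.PsuM_AT
import Cfsg.Agent.Helper41.PsuM_ACONJ
import Cfsg.Agent.Helper55.PsuM_AROOTa

/-!
# S2089 block I-even-2: the piece (RD) (independence)
-/

set_option autoImplicit false

namespace Cfsg.Agent.Helper5.PsuE2

open Matrix
open scoped commutatorElement
open Cfsg.Agent.Helper43.PsuM.Ev

universe u

variable {K : Type u} [Field K] {σ : K →+* K} {m : ℕ}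

/-- the subgroup of `Qsub` attached to an additive subgroup of `SkewH` -/
def qSub (σ : K →+* K) (V : AddSubgroup (Matrix (Fin m) (Fin m) K)) (hV : V ≤ SkewH m σ) :
    Subgroup (SUe m σ) where
  carrier := {g | ∃ B ∈ V, g = qE σ B}
  one_mem' := ⟨0, V.zero_mem, Cfsg.Agent.Helper61.PsuM.qE_zero.symm⟩
  mul_mem' := by
    rintro _ _ ⟨B, hB, rfl⟩ ⟨B', hB', rfl⟩
    exact ⟨B + B', V.add_mem hB hB', (Cfsg.Agent.Helper61.PsuM.qE_add (hV hB) (hV hB')).symm⟩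
  inv_mem' := by
    rintro _ ⟨B, hB, rfl⟩
    exact ⟨-B, V.neg_mem hB, (Cfsg.Agent.Helper61.PsuM.qE_neg (hV hB)).symm⟩

/-- matrices with prescribed zero entries -/
def zeroOn (m : ℕ) (K : Type u) [Field K] (P : Fin m → Fin m → Prop) :
    AddSubgroup (Matrix (Fin m) (Fin m) K) where
  carrier := {B | ∀ i j, P i j → B i j = 0}
  zero_mem' := fun _ _ _ => rfl
  add_mem' := fun {a b} ha hb i j h => by rw [Matrix.add_apply, ha i j h, hb i j h, add_zero]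
  neg_mem' := fun {a} ha i j h => by rw [Matrix.neg_apply, ha i j h, neg_zero]

theorem RD_skew_one (F : F4Facts σ) : σ (1 : K) + 1 = 0 := by
  rw [map_one]
  exact F.two 1

theorem RD_zE_eq (i : Fin m) : zE σ i 1 = qE σ (Matrix.single i i (1 : K)) := rfl

variable [Fintype K]

theorem comm_inf (hK : Fintype.card K = 2 ^ 2) (hσq : ∀ x, σ x = x ^ 2) :
    ⁅Qsub m σ, Tsub m σ⁆ ⊓ Subgroup.closure (Set.range fun i : Fin m => zE σ i 1) = ⊥ := by
  have F := f4Facts hK hσq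
  have hσ := F.invol
  have h1 : ⁅Qsub m σ, Tsub m σ⁆ ≤
      qSub σ (SkewH m σ ⊓ zeroOn m K fun i j => i = j) inf_le_left := by
    rw [Subgroup.commutator_le]
    intro g₁ h₁ g₂ h₂
    obtain ⟨B, hB, rfl⟩ := (Cfsg.Agent.Helper61.PsuM.mem_Qsub_iff g₁).mp h₁
    obtain ⟨d, hd, hdet, rfl⟩ := (Cfsg.Agent.Helper33.PsuM.mem_Tsub_iff hσ g₂).mp h₂
    have hnB : -B ∈ SkewH m σ := (SkewH m σ).neg_mem hB
    obtain ⟨hS, hconj⟩ := Cfsg.Agent.Helper41.PsuM.tE_conj_qE hσ d hd hdet hnB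
    have e : ⁅qE σ B, tE σ d⁆ =
        qE σ (B + Matrix.diagonal d * -B * Matrix.diagonal (fun i => σ (d i))) := by
      rw [Cfsg.Agent.Helper61.PsuM.qE_add hB hS, ← hconj, Cfsg.Agent.Helper61.PsuM.qE_neg hB,
        commutatorElement_def]
      group
    refine ⟨_, ⟨(SkewH m σ).add_mem hB hS, ?_⟩, e⟩
    rintro i j rfl
    rw [Matrix.add_apply, Matrix.mul_diagonal, Matrix.diagonal_mul, Matrix.neg_apply]
    have hn := F.norm (d i) (hd i)
    calc B i i + d i * -B i i * σ (d i) = B i i - (d i * σ (d i)) * B i i := by ring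
      _ = 0 := by rw [hn, one_mul, sub_self]
  have h2 : Subgroup.closure (Set.range fun i : Fin m => zE σ i 1) ≤
      qSub σ (SkewH m σ ⊓ zeroOn m K fun i j => i ≠ j) inf_le_left := by
    rw [Subgroup.closure_le]
    rintro _ ⟨i, rfl⟩
    refine ⟨Matrix.single i i 1,
      ⟨Cfsg.Agent.Helper55.PsuM.single_mem_SkewH i (RD_skew_one F), ?_⟩, rfl⟩
    intro a b hab
    rw [Matrix.single_apply]
    rw [if_neg]
    rintro ⟨rfl, rfl⟩
    exact hab rfl
  rw [eq_bot_iff]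
  rintro g ⟨hg1, hg2⟩
  obtain ⟨B, ⟨hB, hB0⟩, rfl⟩ := h1 hg1
  obtain ⟨B', ⟨hB', hB0'⟩, hg⟩ := h2 hg2
  have hBB := Cfsg.Agent.Helper61.PsuM.qE_injOn hB hB' hg
  have hz : B = 0 := by
    ext i j
    by_cases hij : i = j
    · exact hB0 i j hij
    · rw [hBB]
      exact hB0' i j hij
  rw [hz, Subgroup.mem_bot]
  exact Cfsg.Agent.Helper61.PsuM.qE_zero

theorem z_ind (hK : Fintype.card K = 2 ^ 2) (hσq : ∀ x, σ x = x ^ 2) (S : Set (Fin m)) (a : Fin m)
    (ha : a ∉ S) : zE σ a 1 ∉ Subgroup.closure ((fun i : Fin m => zE σ i 1) '' S) := by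
  have F := f4Facts hK hσq
  have h2 : Subgroup.closure ((fun i : Fin m => zE σ i 1) '' S) ≤
      qSub σ (SkewH m σ ⊓ zeroOn m K fun i j => i = a ∧ j = a) inf_le_left := by
    rw [Subgroup.closure_le]
    rintro _ ⟨i, hi, rfl⟩
    refine ⟨Matrix.single i i 1,
      ⟨Cfsg.Agent.Helper55.PsuM.single_mem_SkewH i (RD_skew_one F), ?_⟩, rfl⟩
    rintro _ _ ⟨rfl, rfl⟩
    rw [Matrix.single_apply, if_neg]
    rintro ⟨rfl, -⟩
    exact ha hi
  intro h
  obtain ⟨B, ⟨hB, hB0⟩, hg⟩ := h2 h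
  have hBB := Cfsg.Agent.Helper61.PsuM.qE_injOn
    (Cfsg.Agent.Helper55.PsuM.single_mem_SkewH a (RD_skew_one F)) hB hg
  have h1 := congrFun (congrFun hBB a) a
  rw [hB0 a a ⟨rfl, rfl⟩, Matrix.single_apply_same] at h1
  exact one_ne_zero h1

end Cfsg.Agent.Helper5.PsuE2
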