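import Cfsg.Agent.Helper5.PsuE2.Defs
import Cfsg.Agent.Helper5.PsuE2.Own
import Cfsg.Agent.Helper5.PsuE2.RD
import Cfsg.Agent.Helper10.PsuE2_RA1
import Cfsg.Agent.Helper10.PsuE2_RA2
import Cfsg.Agent.Helper41.PsuE2_RB
import Cfsg.Agent.Helper41.PsuE2_RT1
import Cfsg.Agent.Helper41.PsuE2_RT2
import Cfsg.Agent.Helper41.PsuE2_RW3
import Cfsg.Agent.Helper49.PsuE2_RW1
import Cfsg.Agent.Helper49.PsuE2_RW2
import Cfsg.Agent.Helper48.PsuE2_L1
import Cfsg.Agent.Helper49.PsuE2_L2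
import Cfsg.Agent.Helper10.PsuE2_L3
import Cfsg.Agent.Helper10.PsuE2_L4
import Cfsg.Agent.Helper48.PsuE2_C3
import Cfsg.Agent.Helper24.PsuE2_INDEP
import Cfsg.Agent.Helper64.PsuE2_ZINF
import Cfsg.Agent.Helper64.PsuE2_CINF
import Cfsg.Agent.Helper15.PsuE2_CMAP
import Cfsg.Agent.Helper15.PsuE2_TINV
import Cfsg.Agent.Helper24.PsuE2_XINV
import Cfsg.Agent.Helper10.PsuM_NRM
import Cfsg.Agent.Helper31.PsuM_KILL

/-!
# S2089 block I-even-2 (`q = 2`): the complement (assembly)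

`K = F_4`, `σ x = x ^ 2`, `G = SUe m σ`, `m ≥ 4`; `τ : Γ →* G` onto with central kernel of order `2`, and the
preimage `Q̂` of `Qsub` abelian: there is a complement to the kernel in `Q̂`, invariant under the preimages of
`Tsub` and `USsub`.
-/

set_option autoImplicit false

namespace Cfsg.Agent.Helper5.PsuE2

open Matrix
open scoped commutatorElement
open Cfsg.Agent.Helper43.PsuM.Ev
open Cfsg.Agent.Helper96.StLift

universe u

/-- the matrix side, assembled -/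
theorem rootFacts {K : Type u} [Field K] [Fintype K] {σ : K →+* K} {m : ℕ}
    (hK : Fintype.card K = 2 ^ 2) (hσq : ∀ x, σ x = x ^ 2) (hm : 4 ≤ m) :
    RootFacts σ m where
  z_mem := Cfsg.Agent.Helper10.PsuE2.z_mem hK hσq
  c_mem := Cfsg.Agent.Helper10.PsuE2.c_mem hK hσq
  x_norm := Cfsg.Agent.Helper10.PsuE2.x_norm hK hσq
  T_norm := Cfsg.Agent.Helper10.PsuE2.T_norm hK hσq
  Q_comm := Cfsg.Agent.Helper10.PsuE2.Q_comm
  T_odd := Cfsg.Agent.Helper10.PsuE2.T_odd hK hσq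
  Q_le := Cfsg.Agent.Helper10.PsuE2.Q_le hK hσq
  c_add := Cfsg.Agent.Helper10.PsuE2.c_add hK hσq
  c_symm := Cfsg.Agent.Helper10.PsuE2.c_symm hK hσq
  x_add := Cfsg.Agent.Helper10.PsuE2.x_add hK hσq
  x_zero := Cfsg.Agent.Helper10.PsuE2.x_zero hK hσq
  z_zero := Cfsg.Agent.Helper10.PsuE2.z_zero
  x_z := Cfsg.Agent.Helper41.PsuE2.x_z hK hσq
  x_z_comm := Cfsg.Agent.Helper41.PsuE2.x_z_comm hK hσq
  x_c := Cfsg.Agent.Helper41.PsuE2.x_c hK hσq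
  T_z := Cfsg.Agent.Helper41.PsuE2.T_z hK hσq
  T_ab := Cfsg.Agent.Helper41.PsuE2.T_ab hK hσq hm
  T_kill := Cfsg.Agent.Helper41.PsuE2.T_kill hK hσq hm
  c_mem_comm := Cfsg.Agent.Helper41.PsuE2.c_mem_comm hK hσq hm
  c_mem_comm_Tij := fun a b i j hab hij h1 h2 u =>
    Cfsg.Agent.Helper41.PsuE2.c_mem_comm_Tij hK hσq hm a b i j hab hij h1 h2 u
  n_x := Cfsg.Agent.Helper49.PsuE2.n_x hK hσq
  n_z := Cfsg.Agent.Helper49.PsuE2.n_z hK hσq
  n_c := Cfsg.Agent.Helper49.PsuE2.n_c hK hσq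
  n_T := Cfsg.Agent.Helper41.PsuE2.n_T hK hσq
  comm_inf := comm_inf hK hσq
  z_ind := z_ind hK hσq

section group

variable {K : Type u} [Field K] {σ : K →+* K} {m : ℕ} {Γ : Type u} [Group Γ] [Finite Γ]
  (τ : Γ →* SUe m σ) (hτ : Function.Surjective τ)

theorem liftFacts (E : Ext2 τ hτ) (F : F4Facts σ) (R : RootFacts σ m) (hm : 4 ≤ m) :
    LiftFacts τ hτ :=
  ⟨Cfsg.Agent.Helper48.PsuE2.sq_one τ hτ E F R hm, Cfsg.Agent.Helper49.PsuE2.csh_inf τ hτ E F R hm,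
    Cfsg.Agent.Helper10.PsuE2.torus_z τ hτ E F R hm, Cfsg.Agent.Helper10.PsuE2.x_z_lift τ hτ E F R hm⟩

/-- some index different from `a` -/
def other (hm : 4 ≤ m) (a : Fin m) : Fin m :=
  if a.val = 0 then ⟨1, by omega⟩ else ⟨0, by omega⟩

theorem other_ne (hm : 4 ≤ m) (a : Fin m) : a ≠ other hm a := by
  unfold other
  intro h
  have h' := congrArg Fin.val h
  split_ifs at h' with h0
  · simp only at h'; omega
  · simp only at h'; omega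

/-- the coherent family of lifts of the long root elements -/
noncomputable def zT (hm : 4 ≤ m) (a : Fin m) : Γ := zt τ hτ a (other hm a)

theorem zt_eq_zT (E : Ext2 τ hτ) (F : F4Facts σ) (R : RootFacts σ m) (hm : 4 ≤ m)
    (L : LiftFacts τ hτ) (a b : Fin m) (hab : a ≠ b) : zt τ hτ a b = zT τ hτ hm a := by
  unfold zT
  by_cases h : b = other hm a
  · rw [h]
  · exact Cfsg.Agent.Helper24.PsuE2.zt_indep τ hτ E F R hm L a b (other hm a) hab (other_ne hm a) h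

theorem zFacts (E : Ext2 τ hτ) (F : F4Facts σ) (R : RootFacts σ m) (hm : 4 ≤ m)
    (L : LiftFacts τ hτ) : ZFacts τ hτ (zT τ hτ hm) where
  map_zT := fun a => map_zt τ hτ R (other_ne hm a)
  c1 := fun a b hab t ht => by
    rw [lc_eq_cT_mul_zt τ hτ E F R hm L a b hab t ht, zt_eq_zT τ hτ E F R hm L a b hab]
  c3 := fun a b hab t u g hg => by
    have h := Cfsg.Agent.Helper48.PsuE2.conj_cT τ hτ E F R hm L
      (lc_eq_cT_mul_zt τ hτ E F R hm L) a b hab t u g hg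
    rw [zt_eq_zT τ hτ E F R hm L a b hab] at h
    exact h

end group

/-- **the deliverable**: the complement for `q = 2` -/
theorem exists_complement_q2 {K : Type u} [Field K] [Fintype K] {σ : K →+* K} {m : ℕ}
    {Γ : Type u} [Group Γ] [Finite Γ] (hK : Fintype.card K = 2 ^ 2) (hσq : ∀ x, σ x = x ^ 2)
    (hm : 4 ≤ m) (τ : Γ →* SUe m σ) (hτ : Function.Surjective τ)
    (hc : τ.ker ≤ Subgroup.center Γ) (hker : Nat.card τ.ker = 2)
    (hQ : ∀ x ∈ Qsub m σ, ∀ y ∈ Qsub m σ, lc hτ x y = 1) :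
    ∃ C : Subgroup Γ, C ≤ (Qsub m σ).comap τ ∧ C ⊓ τ.ker = ⊥ ∧ C.map τ = Qsub m σ ∧
      (∀ g : Γ, τ g ∈ Tsub m σ → ∀ c ∈ C, g * c * g⁻¹ ∈ C) ∧
      (∀ g : Γ, τ g ∈ USsub m σ → ∀ c ∈ C, g * c * g⁻¹ ∈ C) := by
  have F := f4Facts hK hσq
  have R := rootFacts (m := m) hK hσq hm
  have E : Ext2 τ hτ := ⟨hc, hker, fun a b ha hb =>
    Cfsg.Agent.Helper31.PsuM.commute_of_lc_eq_one τ hτ hc (hQ _ ha _ hb) a b rfl rfl⟩
  have L := liftFacts τ hτ E F R hm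
  have Z := zFacts τ hτ E F R hm L
  have hinf := Cfsg.Agent.Helper64.PsuE2.Cq_inf_ker τ hτ E F R hm L _ Z
    (Cfsg.Agent.Helper64.PsuE2.closure_inf_ker τ hτ E F R hm L _ Z.map_zT)
  refine ⟨Cq τ (zT τ hτ hm), Cq_le τ hτ E F R hm L _ Z, hinf,
    Cfsg.Agent.Helper15.PsuE2.Cq_map τ hτ E F R hm L _ Z,
    Cfsg.Agent.Helper15.PsuE2.Cq_conj_T τ hτ E F R hm L _ Z, ?_⟩
  unfold USsub
  apply Cfsg.Agent.Helper10.PsuM.conj_mem_of_closure τ hτ hc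
  rintro s ⟨i, j, hij, a, rfl⟩
  obtain ⟨g, hg⟩ := hτ (xE σ i j a)
  exact ⟨g, hg, Cfsg.Agent.Helper24.PsuE2.Cq_conj_x τ hτ E F R hm L _ Z hinf i j (ne_of_lt hij) a g hg⟩

end Cfsg.Agent.Helper5.PsuE2
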