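import Cfsg.Agent.Helper43.PsuM.EvDefs
import Cfsg.Agent.Helper96.StLift.Basic

/-!
# S2089 block I-even-2 (`q = 2`): definitions

`K = F_4`, `σ x = x ^ 2`, `G = SUe m σ` (helper43's model of `SU_{2m}(2)`), `m ≥ 4`.  For a central
extension `τ : Γ →* G` with kernel of order `2` such that the preimage `Q̂` of `Qsub` is abelian we build a
complement `C` to the kernel in `Q̂`, invariant under the preimages of `Tsub` and `USsub`.

* `F4Facts σ`: what is used of the field.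
* `RootFacts σ m`: what is used of the group `SUe m σ` (the "matrix side").
* `Ext2 τ hτ`: the hypotheses on the extension.
* `Csh τ = ⁅Q̂, T̂⁆`: the canonical lift of the short root part of `Qsub`;
  `cT τ a b u ∈ Csh τ`: the lift of `cE σ a b u`;
  `zt τ hτ a b = lc (xE σ a b 1) (zE σ b 1) * (cT τ a b 1)⁻¹`: the canonical lift of `zE σ a 1`.
* `LiftFacts τ hτ`: first consequences for the extension.
-/

set_option autoImplicit false

namespace Cfsg.Agent.Helper5.PsuE2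

open Matrix
open scoped commutatorElement
open Cfsg.Agent.Helper43.PsuM.Ev
open Cfsg.Agent.Helper96.StLift

universe u

variable {K : Type u} [Field K]

/-- what is used of the field `F_4` with `σ x = x ^ 2` -/
structure F4Facts (σ : K →+* K) : Prop where
  invol : ∀ x : K, σ (σ x) = x
  two : ∀ x : K, x + x = 0
  norm : ∀ x : K, x ≠ 0 → x * σ x = 1
  skew : ∀ c : K, σ c + c = 0 → c = 0 ∨ c = 1
  tr : ∀ t t' : K, t ≠ 0 → t' ≠ 0 → t ≠ t' → t * σ t' + σ t * t' = 1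
  exists_omega : ∃ ω : K, ω ≠ 0 ∧ ω ≠ 1

/-- the Weyl element exchanging the indices `b` and `c` (a permutation matrix in characteristic `2`) -/
noncomputable def nE (σ : K →+* K) {m : ℕ} (b c : Fin m) : SUe m σ :=
  xE σ b c 1 * xE σ c b 1 * xE σ b c 1

/-- what is used of the group `SUe m σ` (`K = F_4`, `σ x = x ^ 2`, `m ≥ 4`) -/
structure RootFacts (σ : K →+* K) (m : ℕ) : Prop where
  /-- membership and normalisation -/
  z_mem : ∀ i : Fin m, zE σ i 1 ∈ Qsub m σ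
  c_mem : ∀ i j : Fin m, i ≠ j → ∀ u : K, cE σ i j u ∈ Qsub m σ
  x_norm : ∀ (i j : Fin m) (t : K), ∀ y ∈ Qsub m σ, xE σ i j t * y * (xE σ i j t)⁻¹ ∈ Qsub m σ
  T_norm : ∀ h ∈ Tsub m σ, ∀ y ∈ Qsub m σ, h * y * h⁻¹ ∈ Qsub m σ
  Q_comm : ∀ x ∈ Qsub m σ, ∀ y ∈ Qsub m σ, Commute x y
  T_odd : (Nat.card (Tsub m σ)).Coprime 2
  /-- generation -/
  Q_le : Qsub m σ ≤ Subgroup.closure (Set.range (fun i : Fin m => zE σ i 1) ∪
    {g | ∃ i j : Fin m, i ≠ j ∧ ∃ u : K, g = cE σ i j u})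
  /-- parametrisations -/
  c_add : ∀ i j : Fin m, i ≠ j → ∀ u u' : K, cE σ i j (u + u') = cE σ i j u * cE σ i j u'
  c_symm : ∀ i j : Fin m, i ≠ j → ∀ u : K, cE σ j i u = cE σ i j (σ u)
  x_add : ∀ (i j : Fin m) (t t' : K), xE σ i j (t + t') = xE σ i j t * xE σ i j t'
  x_zero : ∀ i j : Fin m, xE σ i j 0 = 1
  z_zero : ∀ i : Fin m, zE σ i 0 = 1
  /-- the action of the root elements of the Levi subgroup -/
  x_z : ∀ i j : Fin m, i ≠ j → ∀ t : K, t ≠ 0 →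
    xE σ i j t * zE σ j 1 * (xE σ i j t)⁻¹ = cE σ i j t * zE σ i 1 * zE σ j 1
  x_z_comm : ∀ i j l : Fin m, i ≠ j → l ≠ j → ∀ t : K, Commute (xE σ i j t) (zE σ l 1)
  x_c : ∀ i j : Fin m, i ≠ j → ∀ t u : K,
    xE σ i j t * cE σ i j u * (xE σ i j t)⁻¹ = cE σ i j u * zE σ i (t * σ u + σ t * u)
  /-- the torus -/
  T_z : ∀ h ∈ Tsub m σ, ∀ i : Fin m, Commute h (zE σ i 1)
  T_ab : ∀ a b : Fin m, a ≠ b → ∀ t : K, t ≠ 0 → ∃ h ∈ Tsub m σ,
    h * xE σ a b 1 * h⁻¹ = xE σ a b t ∧ h * cE σ a b 1 * h⁻¹ = cE σ a b t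
  T_kill : ∀ a b : Fin m, a ≠ b → ∃ h ∈ Tsub m σ, ∃ w : K, w ≠ 1 ∧
    ∀ t : K, h * xE σ a b t * h⁻¹ = xE σ a b (w * t)
  c_mem_comm : ∀ i j : Fin m, i ≠ j → ∀ u : K, cE σ i j u ∈ ⁅Qsub m σ, Tsub m σ⁆
  c_mem_comm_Tij : ∀ a b i j : Fin m, a ≠ b → i ≠ j → ¬ (i = a ∧ j = b) → ¬ (i = b ∧ j = a) →
    ∀ u : K, cE σ i j u ∈ ⁅Qsub m σ, Tij σ a b⁆
  /-- the Weyl elements -/
  n_x : ∀ a b c : Fin m, a ≠ b → a ≠ c → b ≠ c → ∀ t : K,
    nE σ b c * xE σ a b t * (nE σ b c)⁻¹ = xE σ a c t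
  n_z : ∀ b c : Fin m, b ≠ c → nE σ b c * zE σ b 1 * (nE σ b c)⁻¹ = zE σ c 1
  n_c : ∀ a b c : Fin m, a ≠ b → a ≠ c → b ≠ c → ∀ u : K,
    nE σ b c * cE σ a b u * (nE σ b c)⁻¹ = cE σ a c u
  n_T : ∀ b c : Fin m, b ≠ c → ∀ h ∈ Tsub m σ, nE σ b c * h * (nE σ b c)⁻¹ ∈ Tsub m σ
  /-- independence -/
  comm_inf : ⁅Qsub m σ, Tsub m σ⁆ ⊓ Subgroup.closure (Set.range fun i : Fin m => zE σ i 1) = ⊥
  z_ind : ∀ (S : Set (Fin m)) (a : Fin m), a ∉ S →
    zE σ a 1 ∉ Subgroup.closure ((fun i : Fin m => zE σ i 1) '' S)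

variable {σ : K →+* K} {m : ℕ} {Γ : Type u} [Group Γ]

/-- the hypotheses on the extension -/
structure Ext2 (τ : Γ →* SUe m σ) (hτ : Function.Surjective τ) : Prop where
  central : τ.ker ≤ Subgroup.center Γ
  card_ker : Nat.card τ.ker = 2
  comm : ∀ a b : Γ, τ a ∈ Qsub m σ → τ b ∈ Qsub m σ → Commute a b

/-- the canonical lift of the short root part of `Qsub` -/
def Csh (τ : Γ →* SUe m σ) : Subgroup Γ := ⁅(Qsub m σ).comap τ, (Tsub m σ).comap τ⁆

/-- the element of `Csh τ` above `cE σ a b u` (`1` if there is none) -/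
noncomputable def cT (τ : Γ →* SUe m σ) (a b : Fin m) (u : K) : Γ :=
  open Classical in if h : ∃ g ∈ Csh τ, τ g = cE σ a b u then h.choose else 1

/-- the canonical lift of `zE σ a 1`, defined through the index `b` -/
noncomputable def zt (τ : Γ →* SUe m σ) (hτ : Function.Surjective τ) (a b : Fin m) : Γ :=
  lc hτ (xE σ a b 1) (zE σ b 1) * (cT τ a b 1)⁻¹

/-- first consequences for the extension -/
structure LiftFacts (τ : Γ →* SUe m σ) (hτ : Function.Surjective τ) : Prop where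
  /-- (L1) `Q̂` has exponent two -/
  sq_one : ∀ g : Γ, τ g ∈ Qsub m σ → g * g = 1
  /-- (L2) -/
  csh_inf : Csh τ ⊓ τ.ker = ⊥
  /-- (L3) lifts of torus elements commute with lifts of long root elements -/
  torus_z : ∀ (g y : Γ) (i : Fin m), τ g ∈ Tsub m σ → τ y = zE σ i 1 → Commute g y
  /-- (L4) lifts of `xE σ a b t` commute with lifts of `zE σ l 1`, `l ≠ b` -/
  x_z : ∀ (g y : Γ) (a b l : Fin m) (t : K), a ≠ b → l ≠ b → τ g = xE σ a b t → τ y = zE σ l 1 →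
    Commute g y

/-! ### generic lemmas -/

theorem conj_mem_commutator {X : Type*} [Group X] (H₁ H₂ : Subgroup X) (g : X)
    (h₁ : ∀ x ∈ H₁, g * x * g⁻¹ ∈ H₁) (h₂ : ∀ x ∈ H₂, g * x * g⁻¹ ∈ H₂) :
    ∀ x ∈ ⁅H₁, H₂⁆, g * x * g⁻¹ ∈ ⁅H₁, H₂⁆ := by
  intro x hx
  have h : (⁅H₁, H₂⁆).map (MulAut.conj g).toMonoidHom ≤ ⁅H₁, H₂⁆ := by
    rw [Subgroup.map_commutator]
    apply Subgroup.commutator_mono
    · rintro _ ⟨y, hy, rfl⟩
      exact h₁ y hy
    · rintro _ ⟨y, hy, rfl⟩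
      exact h₂ y hy
  exact h ⟨x, hx, rfl⟩

theorem csh_map (τ : Γ →* SUe m σ) (hτ : Function.Surjective τ) :
    (Csh τ).map τ = ⁅Qsub m σ, Tsub m σ⁆ := by
  unfold Csh
  rw [Subgroup.map_commutator, Subgroup.map_comap_eq_self_of_surjective hτ,
    Subgroup.map_comap_eq_self_of_surjective hτ]

theorem csh_le (τ : Γ →* SUe m σ)
    (hT : ∀ h ∈ Tsub m σ, ∀ y ∈ Qsub m σ, h * y * h⁻¹ ∈ Qsub m σ) :
    Csh τ ≤ (Qsub m σ).comap τ := by
  unfold Csh
  rw [Subgroup.commutator_le]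
  intro x hx t ht
  rw [Subgroup.mem_comap] at hx ht ⊢
  rw [commutatorElement_def, map_mul, map_mul, map_mul, map_inv, map_inv]
  have h1 := hT _ ht _ ((Qsub m σ).inv_mem hx)
  have h2 : τ x * τ t * (τ x)⁻¹ * (τ t)⁻¹ = τ x * (τ t * (τ x)⁻¹ * (τ t)⁻¹) := by group
  rw [h2]
  exact (Qsub m σ).mul_mem hx h1

theorem csh_conj (τ : Γ →* SUe m σ)
    (hT : ∀ h ∈ Tsub m σ, ∀ y ∈ Qsub m σ, h * y * h⁻¹ ∈ Qsub m σ) (g : Γ) (hg : τ g ∈ Tsub m σ) :
    ∀ c ∈ Csh τ, g * c * g⁻¹ ∈ Csh τ := by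
  apply conj_mem_commutator
  · intro x hx
    rw [Subgroup.mem_comap] at hx ⊢
    rw [map_mul, map_mul, map_inv]
    exact hT _ hg _ hx
  · intro x hx
    rw [Subgroup.mem_comap] at hx ⊢
    rw [map_mul, map_mul, map_inv]
    exact (Tsub m σ).mul_mem ((Tsub m σ).mul_mem hg hx) ((Tsub m σ).inv_mem hg)

theorem cT_spec {τ : Γ →* SUe m σ} {a b : Fin m} {u : K} (h : ∃ g ∈ Csh τ, τ g = cE σ a b u) :
    cT τ a b u ∈ Csh τ ∧ τ (cT τ a b u) = cE σ a b u := by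
  unfold cT
  rw [dif_pos h]
  exact h.choose_spec

theorem exists_cT (τ : Γ →* SUe m σ) (hτ : Function.Surjective τ) (R : RootFacts σ m) {a b : Fin m}
    (hab : a ≠ b) (u : K) : ∃ g ∈ Csh τ, τ g = cE σ a b u := by
  have h := R.c_mem_comm a b hab u
  rw [← csh_map τ hτ] at h
  exact h

theorem cT_mem (τ : Γ →* SUe m σ) (hτ : Function.Surjective τ) (R : RootFacts σ m) {a b : Fin m}
    (hab : a ≠ b) (u : K) : cT τ a b u ∈ Csh τ :=
  (cT_spec (exists_cT τ hτ R hab u)).1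

theorem map_cT (τ : Γ →* SUe m σ) (hτ : Function.Surjective τ) (R : RootFacts σ m) {a b : Fin m}
    (hab : a ≠ b) (u : K) : τ (cT τ a b u) = cE σ a b u :=
  (cT_spec (exists_cT τ hτ R hab u)).2

theorem eq_of_mem_csh {τ : Γ →* SUe m σ} (hinf : Csh τ ⊓ τ.ker = ⊥) {g g' : Γ} (hg : g ∈ Csh τ)
    (hg' : g' ∈ Csh τ) (h : τ g = τ g') : g = g' := by
  have h1 : g * g'⁻¹ ∈ Csh τ ⊓ τ.ker := by
    refine Subgroup.mem_inf.mpr ⟨(Csh τ).mul_mem hg ((Csh τ).inv_mem hg'), ?_⟩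
    rw [MonoidHom.mem_ker, map_mul, map_inv, h, mul_inv_cancel]
  rw [hinf, Subgroup.mem_bot] at h1
  exact mul_inv_eq_one.mp h1

theorem cT_unique (τ : Γ →* SUe m σ) (hτ : Function.Surjective τ) (R : RootFacts σ m)
    (hinf : Csh τ ⊓ τ.ker = ⊥) {a b : Fin m} (hab : a ≠ b) {u : K} {g : Γ} (hg : g ∈ Csh τ)
    (h : τ g = cE σ a b u) : g = cT τ a b u :=
  eq_of_mem_csh hinf hg (cT_mem τ hτ R hab u) (h.trans (map_cT τ hτ R hab u).symm)


theorem map_zt (τ : Γ →* SUe m σ) (hτ : Function.Surjective τ) (R : RootFacts σ m) {a b : Fin m}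
    (hab : a ≠ b) : τ (zt τ hτ a b) = zE σ a 1 := by
  unfold zt
  rw [map_mul, map_inv, map_lc, map_cT τ hτ R hab, commutatorElement_def,
    R.x_z a b hab 1 one_ne_zero, mul_inv_cancel_right]
  have h := R.Q_comm _ (R.c_mem a b hab 1) _ (R.z_mem a)
  rw [h.eq, mul_inv_cancel_right]

/-- second-level facts: a coherent family `zT` of lifts of the long root elements -/
structure ZFacts (τ : Γ →* SUe m σ) (hτ : Function.Surjective τ) (zT : Fin m → Γ) : Prop where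
  map_zT : ∀ a : Fin m, τ (zT a) = zE σ a 1
  /-- (C1) -/
  c1 : ∀ a b : Fin m, a ≠ b → ∀ t : K, t ≠ 0 →
    lc hτ (xE σ a b t) (zE σ b 1) = cT τ a b t * zT a
  /-- (C3) -/
  c3 : ∀ a b : Fin m, a ≠ b → ∀ (t u : K) (g : Γ), τ g = xE σ a b t →
    g * cT τ a b u * g⁻¹ = cT τ a b u ∨ g * cT τ a b u * g⁻¹ = cT τ a b u * zT a

/-- the complement -/
def Cq (τ : Γ →* SUe m σ) (zT : Fin m → Γ) : Subgroup Γ := Csh τ ⊔ Subgroup.closure (Set.range zT)

/-- (FLD) the facts on `F_4` -/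
theorem f4Facts {K : Type u} [Field K] [Fintype K] {σ : K →+* K} (hK : Fintype.card K = 2 ^ 2)
    (hσq : ∀ x, σ x = x ^ 2) : F4Facts σ := by
  have h4 : (4 : K) = 0 := by
    have h := Nat.cast_card_eq_zero K
    rw [hK] at h
    norm_num at h
    exact h
  have h2 : (2 : K) = 0 := by
    have h : (2 : K) * 2 = 0 := by rw [← h4]; norm_num
    exact mul_self_eq_zero.mp h
  have htwo : ∀ x : K, x + x = 0 := fun x => by rw [← two_mul, h2, zero_mul]
  have hpow4 : ∀ x : K, x ^ 4 = x := fun x => by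
    have h := FiniteField.pow_card x
    rw [hK] at h
    norm_num at h
    exact h
  have hpow3 : ∀ x : K, x ≠ 0 → x ^ 3 = 1 := fun x hx => by
    have h := FiniteField.pow_card_sub_one_eq_one x hx
    rw [hK] at h
    norm_num at h
    exact h
  refine ⟨?_, htwo, ?_, ?_, ?_, ?_⟩
  · intro x
    rw [hσq, hσq, ← pow_mul]
    exact hpow4 x
  · intro x hx
    rw [hσq, ← pow_succ']
    exact hpow3 x hx
  · intro c hc
    rw [hσq] at hc
    have h : c * (c + 1) = 0 := by rw [← hc]; ring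
    rcases mul_eq_zero.mp h with h | h
    · exact Or.inl h
    · right
      have h' := htwo (1 : K)
      have : c = c + (1 + 1) := by rw [h', add_zero]
      rw [this, ← add_assoc, h, zero_add]
  · intro t t' ht ht' hne
    rw [hσq, hσq]
    have hs : t + t' ≠ 0 := by
      intro h
      apply hne
      have : t = t + (t' + t') := by rw [htwo, add_zero]
      rw [this, ← add_assoc, h, zero_add]
    have h3 := hpow3 _ hs
    have e : (t + t') ^ 3 = t ^ 3 + t' ^ 3 + (t * t' ^ 2 + t ^ 2 * t') + 2 * (t * t' ^ 2 + t ^ 2 * t') := by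
      ring
    rw [e, hpow3 t ht, hpow3 t' ht', h2, zero_mul, add_zero, htwo, zero_add] at h3
    exact h3
  · classical
    by_contra h
    push Not at h
    have hsub : (Finset.univ : Finset K) ⊆ {0, 1} := by
      intro x _
      by_cases hx : x = 0
      · simp [hx]
      · simp [h x hx]
    have hc := Finset.card_le_card hsub
    rw [Finset.card_univ, hK] at hc
    have : ({0, 1} : Finset K).card ≤ 2 := Finset.card_le_two
    omega

end Cfsg.Agent.Helper5.PsuE2
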